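import Mathlib.GroupTheory.Sylow
import Mathlib.GroupTheory.SpecificGroups.Dihedral
import Mathlib.GroupTheory.SpecificGroups.Cyclic
import Mathlib.Tactic

/-!
Subgroups with normal Sylow subgroup and cyclic quotient.
-/

set_option autoImplicit false

namespace CfsgLib.PByCyclic

variable {G : Type*} [Group G]

/-- A group with a cyclic subgroup of index two inverted by an outside involution. -/
theorem nonempty_dihedral {n : ℕ} [NeZero n] (hG : Nat.card G = 2 * n) {g s : G}
    (hg : orderOf g = n) (hs : s ∉ Subgroup.zpowers g) (hss : s * s = 1) (hsg : s * g * s⁻¹ = g⁻¹) :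
    Nonempty (G ≃* DihedralGroup n) := by
  have hsi : s⁻¹ = s := inv_eq_of_mul_eq_one_left hss
  have hpow : ∀ i j : ZMod n, g ^ (i + j).val = g ^ i.val * g ^ j.val := fun i j => by
    rw [← pow_add, pow_eq_pow_iff_modEq, hg, ZMod.val_add]
    exact Nat.mod_modEq _ _
  have hsub : ∀ i j : ZMod n, g ^ (i - j).val = g ^ i.val * (g ^ j.val)⁻¹ := fun i j => by
    rw [eq_mul_inv_iff_mul_eq, ← hpow, sub_add_cancel]
  have hconj : ∀ k : ℕ, g ^ k * s = s * (g ^ k)⁻¹ := fun k => by
    have h1 : s * g ^ k * s⁻¹ = (g ^ k)⁻¹ := by rw [← conj_pow, hsg, inv_pow]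
    rw [← h1, hsi, ← mul_assoc, ← mul_assoc, hss, one_mul]
  let φ : DihedralGroup n →* G :=
    MonoidHom.mk' (fun x => match x with
      | .r i => g ^ i.val
      | .sr i => s * g ^ i.val) (by
      rintro (i | i) (j | j) <;> simp only [DihedralGroup.r_mul_r, DihedralGroup.r_mul_sr,
        DihedralGroup.sr_mul_r, DihedralGroup.sr_mul_sr]
      · exact hpow i j
      · rw [hsub, ← mul_assoc (g ^ i.val), hconj, mul_assoc]
        congr 1
        exact ((Commute.pow_pow_self g _ _).inv_right).eq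
      · rw [hpow, mul_assoc]
      · rw [hsub, mul_assoc s, ← mul_assoc (g ^ i.val), hconj, ← mul_assoc, ← mul_assoc, hss, one_mul]
        exact ((Commute.pow_pow_self g _ _).inv_right).eq)
  have hinj : Function.Injective φ := by
    refine (injective_iff_map_eq_one φ).2 fun x hx => ?_
    rcases x with i | i
    · change g ^ i.val = 1 at hx
      have : i.val = 0 :=
        Nat.eq_zero_of_dvd_of_lt (hg.symm.dvd.trans (orderOf_dvd_of_pow_eq_one hx)) (ZMod.val_lt i)
      rw [(ZMod.val_eq_zero i).1 this]; rfl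
    · change s * g ^ i.val = 1 at hx
      exact absurd (by
        rw [eq_inv_of_mul_eq_one_left hx]
        exact inv_mem (pow_mem (Subgroup.mem_zpowers g) _)) hs
  have : Finite G := Nat.finite_of_card_ne_zero (by rw [hG]; have := NeZero.ne n; omega)
  have hbij := (Nat.bijective_iff_injective_and_card φ).2 ⟨hinj, by rw [DihedralGroup.nat_card, hG]⟩
  exact ⟨(MulEquiv.ofBijective φ hbij).symm⟩

/-- Central cyclic subgroup with cyclic quotient of coprime order: cyclic group. -/
theorem isCyclic_of_central [Finite G] (S : Subgroup G) [S.Normal] (hS : S ≤ Subgroup.center G)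
    [IsCyclic S] (hq : IsCyclic (G ⧸ S)) (hco : (Nat.card S).Coprime S.index) : IsCyclic G := by
  obtain ⟨g, hg⟩ := IsCyclic.exists_ofOrder_eq_natCard (α := S)
  obtain ⟨yb, hyb⟩ := IsCyclic.exists_ofOrder_eq_natCard (α := G ⧸ S)
  obtain ⟨y, rfl⟩ := QuotientGroup.mk_surjective yb
  have hdvd : S.index ∣ orderOf y := by
    have h := orderOf_map_dvd (QuotientGroup.mk' S) y
    rwa [QuotientGroup.mk'_apply, hyb, ← Subgroup.index_eq_card] at h
  obtain ⟨c, hc⟩ := hdvd
  have hc0 : c ≠ 0 := by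
    intro h
    rw [h, mul_zero] at hc
    exact (orderOf_pos y).ne' hc
  have hy' : orderOf (y ^ c) = S.index := by
    rw [orderOf_pow' y hc0, hc, Nat.gcd_eq_right (Dvd.intro_left _ rfl),
      Nat.mul_div_cancel _ (Nat.pos_of_ne_zero hc0)]
  have hg' : orderOf (g : G) = Nat.card S := by rw [Subgroup.orderOf_coe, hg]
  have hcomm : Commute (g : G) (y ^ c) := (Subgroup.mem_center_iff.1 (hS g.2) (y ^ c)).symm
  refine isCyclic_of_orderOf_eq_card ((g : G) * y ^ c) ?_
  rw [hcomm.orderOf_mul_eq_mul_orderOf_of_coprime (by rw [hg', hy']; exact hco), hg', hy',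
    Subgroup.card_mul_index]

/-- `T ⊔ ⟨y⟩` has a normal Sylow subgroup with cyclic quotient. -/
theorem cond_sup [Finite G] {p : ℕ} [Fact p.Prime] (T : Subgroup G) (hT : IsPGroup p T) (y : G)
    (hy : y ∈ Subgroup.normalizer (T : Set G)) :
    (∀ S : Sylow p ↥(T ⊔ Subgroup.zpowers y), (S : Subgroup ↥(T ⊔ Subgroup.zpowers y)).Normal) ∧
      ∀ (S : Sylow p ↥(T ⊔ Subgroup.zpowers y)) [(S : Subgroup ↥(T ⊔ Subgroup.zpowers y)).Normal],
        IsCyclic (↥(T ⊔ Subgroup.zpowers y) ⧸ (S : Subgroup ↥(T ⊔ Subgroup.zpowers y))) := by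
  set H := T ⊔ Subgroup.zpowers y with hHdef
  have hTH : T ≤ H := le_sup_left
  have hyH : y ∈ H := Subgroup.mem_sup_right (Subgroup.mem_zpowers y)
  have hnorm : H ≤ Subgroup.normalizer (T : Set G) :=
    sup_le Subgroup.le_normalizer (Subgroup.zpowers_le.2 hy)
  haveI hTn : (T.subgroupOf H).Normal := (Subgroup.normal_subgroupOf_iff_le_normalizer hTH).2 hnorm
  haveI hcyc : IsCyclic (↥H ⧸ T.subgroupOf H) := by
    let π := QuotientGroup.mk' (T.subgroupOf H)
    refine ⟨π ⟨y, hyH⟩, fun q => ?_⟩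
    obtain ⟨h, rfl⟩ := QuotientGroup.mk'_surjective _ q
    have hle : H ≤ ((Subgroup.zpowers (π ⟨y, hyH⟩)).comap π).map H.subtype := by
      refine sup_le (fun t ht => ?_) (Subgroup.zpowers_le.2 ?_)
      · refine ⟨⟨t, hTH ht⟩, ?_, rfl⟩
        have h1 : π ⟨t, hTH ht⟩ = 1 :=
          (QuotientGroup.eq_one_iff (N := T.subgroupOf H) ⟨t, hTH ht⟩).2
            (Subgroup.mem_subgroupOf.2 ht)
        simp only [SetLike.mem_coe, Subgroup.mem_comap, h1, one_mem]
      · exact ⟨⟨y, hyH⟩, Subgroup.mem_zpowers _, rfl⟩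
    obtain ⟨h', hh', he⟩ := hle h.2
    rw [← Subtype.ext (a1 := h') (a2 := h) he]
    exact hh'
  have hTs : ∀ S : Sylow p ↥H, T.subgroupOf H ≤ (S : Subgroup ↥H) := fun S =>
    IsPGroup.le_sylow_of_normal (N := T.subgroupOf H)
      (hT.comap_of_injective H.subtype H.subtype_injective) S
  refine ⟨fun S => ⟨fun n hn g => ?_⟩, fun S _ => ?_⟩
  · letI := IsCyclic.commGroup (α := ↥H ⧸ T.subgroupOf H)
    have h1 : g * n * g⁻¹ * n⁻¹ ∈ T.subgroupOf H := by
      rw [← QuotientGroup.eq_one_iff]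
      simp only [QuotientGroup.mk_mul, QuotientGroup.mk_inv]
      simp
    have := mul_mem (hTs S h1) hn
    simpa [mul_assoc] using this
  · exact isCyclic_of_surjective
      (QuotientGroup.map (T.subgroupOf H) (S : Subgroup ↥H) (MonoidHom.id _) (hTs S))
      (fun q => by
        obtain ⟨h, rfl⟩ := QuotientGroup.mk_surjective q
        exact ⟨(h : ↥H ⧸ T.subgroupOf H), rfl⟩)

/-- In a dihedral group, whoever fails to commute with an element of odd order is a reflection. -/
theorem refl_of_noncomm {n : ℕ} {H : Type*} [Group H] (e : H ≃* DihedralGroup n) {a x : H}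
    (ha : Odd (orderOf a)) (hne : x * a ≠ a * x) :
    x * x = 1 ∧ ∀ b : H, Odd (orderOf b) → x * b * x⁻¹ = b⁻¹ := by
  have hrot : ∀ b : H, Odd (orderOf b) → ∃ i, e b = DihedralGroup.r i := by
    intro b hb
    match h : e b with
    | .r i => exact ⟨i, rfl⟩
    | .sr i =>
      rw [← e.orderOf_eq, h, DihedralGroup.orderOf_sr] at hb
      exact absurd hb (by decide)
  obtain ⟨i, hi⟩ := hrot a ha
  match hx : e x with
  | .r j =>
    exact absurd (e.injective (by
      rw [map_mul, map_mul, hi, hx, DihedralGroup.r_mul_r, DihedralGroup.r_mul_r, add_comm])) hne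
  | .sr j =>
    refine ⟨e.injective (by rw [map_mul, hx, DihedralGroup.sr_mul_self, map_one]), fun b hb => ?_⟩
    obtain ⟨k, hk⟩ := hrot b hb
    apply e.injective
    rw [map_mul, map_mul, map_inv, map_inv, hx, hk, DihedralGroup.sr_mul_r, DihedralGroup.inv_sr,
      DihedralGroup.sr_mul_sr, DihedralGroup.inv_r]
    congr 1
    abel

theorem exists_omega [Finite G] {p : ℕ} [Fact p.Prime] (S : Subgroup G) (hS : IsPGroup p S)
    [IsCyclic S] (hne : S ≠ ⊥) :
    ∃ a ∈ S, orderOf a = p ∧ ∀ b ∈ S, b ^ p = 1 → b ∈ Subgroup.zpowers a := by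
  obtain ⟨g, hg⟩ := IsCyclic.exists_ofOrder_eq_natCard (α := S)
  obtain ⟨k, hk⟩ := IsPGroup.iff_card.1 hS
  have hk0 : k ≠ 0 := fun h => hne (Subgroup.eq_bot_of_card_eq _ (by rw [hk, h, pow_zero]))
  obtain ⟨k, rfl⟩ := Nat.exists_eq_succ_of_ne_zero hk0
  have hg' : orderOf (g : G) = p ^ (k + 1) := by rw [Subgroup.orderOf_coe, hg, hk]
  have hp := (Fact.out : p.Prime)
  have hpos : 0 < p ^ k := pow_pos hp.pos k
  refine ⟨(g : G) ^ p ^ k, pow_mem g.2 _, ?_, fun b hb hbp => ?_⟩
  · rw [orderOf_pow' _ hpos.ne', hg', Nat.gcd_eq_right (pow_dvd_pow p (Nat.le_succ k)), pow_succ',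
      Nat.mul_div_cancel _ hpos]
  · have htop : Subgroup.zpowers g = ⊤ :=
      Subgroup.eq_top_of_card_eq _ (by rw [Nat.card_zpowers, hg])
    have hbz : (⟨b, hb⟩ : S) ∈ Subgroup.zpowers g := by simp [htop]
    obtain ⟨j, hj⟩ := Subgroup.mem_zpowers_iff.1 hbz
    have hj' : (g : G) ^ j = b := by simpa using congrArg Subtype.val hj
    rw [← hj', ← zpow_natCast, ← zpow_mul, ← orderOf_dvd_iff_zpow_eq_one, hg', pow_succ] at hbp
    push_cast at hbp
    have hd : ((p : ℤ) ^ k) ∣ j := Int.dvd_of_mul_dvd_mul_right (by exact_mod_cast hp.ne_zero) hbp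
    obtain ⟨m, hm⟩ := hd
    rw [← hj', hm, zpow_mul]
    refine Subgroup.mem_zpowers_iff.2 ⟨m, ?_⟩
    rw [← zpow_natCast (g : G), Nat.cast_pow]

/-- Normalizer of a subgroup of an abelian Sylow subgroup with self-centralizing normalizer. -/
theorem normalizer_le_centralizer [Finite G] {p : ℕ} [Fact p.Prime] (P : Sylow p G)
    [IsMulCommutative (P : Subgroup G)]
    (hNC : Subgroup.normalizer ((P : Subgroup G) : Set G) =
      Subgroup.centralizer ((P : Subgroup G) : Set G))
    (S : Subgroup G) (hS : S ≤ P) :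
    Subgroup.normalizer (S : Set G) ≤ Subgroup.centralizer (S : Set G) := by
  intro y hy
  set C := Subgroup.centralizer (S : Set G) with hC
  have hPC : (P : Subgroup G) ≤ C :=
    (Subgroup.le_centralizer (P : Subgroup G)).trans (Subgroup.centralizer_le hS)
  let P' : Sylow p G := y • P
  have hP'C : (P' : Subgroup G) ≤ C := by
    intro a ha
    rw [Sylow.coe_subgroup_smul, Subgroup.mem_pointwise_smul_iff_inv_smul_mem] at ha
    intro b hb
    have h1 : y⁻¹ * b * y ∈ S := (Subgroup.mem_normalizer_iff''.1 hy b).1 hb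
    have h2 := hPC ha _ h1
    simp only [MulAut.smul_def, MulAut.inv_def, MulAut.conj_symm_apply] at h2
    have := congrArg (fun z => y * z * y⁻¹) h2
    simpa [mul_assoc] using this
  obtain ⟨c, hc⟩ := MulAction.exists_smul_eq ↥C (P'.subtype hP'C) (P.subtype hPC)
  rw [Sylow.smul_subtype] at hc
  have hcP : (c : G) • P' = P := Sylow.subtype_injective hc
  have hmem : (c : G) * y ∈ Subgroup.normalizer ((P : Subgroup G) : Set G) :=
    Sylow.smul_eq_iff_mem_normalizer.1 (by rw [mul_smul]; exact hcP)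
  have hyC : (c : G) * y ∈ C := by
    rw [hNC] at hmem
    exact Subgroup.centralizer_le hS hmem
  exact (mul_mem_cancel_left c.2).1 hyC

end CfsgLib.PByCyclic
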